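import Cfsg.Agent.H492.IMSph

/-!
# Real irreducible characters from spherical functions (helper426)

The theorems of `H492/IMSph.lean`, with the additional information that the character is real valued:
`χ g⁻¹ = χ g`.
-/

set_option autoImplicit false

namespace Cfsg.Agent.H426.Imc.Sph

open Cfsg Cfsg.Agent.Characters.Core Cfsg.Agent.H492.IMSph
open scoped ComplexConjugate

universe u

variable {G : Type u} [Group G]

theorem exists_irr_of_spherical [Fintype G] {φ : G → ℂ} {κ : ℂ} (h1 : φ 1 = 1) (hs : ∀ z, φ z⁻¹ = φ z)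
    (hκ : ∑ z, φ z * φ z⁻¹ = κ) (hκ0 : κ ≠ 0)
    (hprim : ∀ y u, ∑ g, φ g * φ (y⁻¹ * g⁻¹ * u) = (∑ g, φ g * φ (y⁻¹ * g⁻¹)) * φ u) :
    ∃ χ : IrrCharacter G, (χ : G → ℂ) 1 * κ = Nat.card G ∧ (∀ g, (χ : G → ℂ) g⁻¹ = (χ : G → ℂ) g) ∧
      ∀ g, (χ : G → ℂ) g = ∑ a : G, κ⁻¹ * φ (a⁻¹ * (g * a)) := by
  classical
  -- the idempotent
  have hid : ∀ u, ∑ g, φ g * φ (g⁻¹ * u) = κ * φ u := by
    intro u
    have h := hprim 1 u
    rw [inv_one] at h
    simp only [one_mul] at h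
    rw [h, hκ]
  have hy : ∀ y, ∑ g, φ g * φ (y⁻¹ * g⁻¹) = κ * φ y⁻¹ := by
    intro y
    rw [← hid y⁻¹, ← Equiv.sum_comp ((Equiv.mulLeft y).trans (Equiv.inv G))]
    refine Finset.sum_congr rfl fun k _ => ?_
    simp only [Equiv.trans_apply, Equiv.inv_apply, Equiv.coe_mulLeft, inv_inv, mul_inv_rev]
    rw [inv_mul_cancel_left, mul_comm]
  have hG : (Nat.card G : ℂ) ≠ 0 := by
    exact_mod_cast Nat.card_pos.ne'
  -- the character
  have hc : IsCharacter G (fun g : G => ∑ a : G, κ⁻¹ * φ (a⁻¹ * (g * a))) := by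
    have := Cfsg.Agent.H651.isCharacter_sum_perm (MulAction.toPermHom G G)
      (fun a b => κ⁻¹ * φ (a⁻¹ * b)) ?_ ?_
    · exact this
    · intro a c
      have h2 : ∀ b, κ⁻¹ * φ (a⁻¹ * b) * (κ⁻¹ * φ (b⁻¹ * c)) =
          κ⁻¹ * κ⁻¹ * (φ (a⁻¹ * b) * φ (b⁻¹ * c)) := fun b => by ring
      rw [Finset.sum_congr rfl fun b _ => h2 b, ← Finset.mul_sum]
      rw [← Equiv.sum_comp (Equiv.mulLeft a)]
      have h3 : ∀ b, φ (a⁻¹ * (Equiv.mulLeft a) b) * φ (((Equiv.mulLeft a) b)⁻¹ * c) =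
          φ b * φ (b⁻¹ * (a⁻¹ * c)) := by
        intro b
        simp only [Equiv.coe_mulLeft, inv_mul_cancel_left, mul_inv_rev, mul_assoc]
      rw [Finset.sum_congr rfl fun b _ => h3 b, hid]
      field_simp
    · intro g a b
      show κ⁻¹ * φ ((g * a)⁻¹ * (g * b)) = _
      rw [mul_inv_rev, mul_assoc, inv_mul_cancel_left]
  set θ : G → ℂ := fun g : G => ∑ a : G, κ⁻¹ * φ (a⁻¹ * (g * a)) with hθ
  -- its norm
  have hnorm : classInner θ θ = 1 := by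
    rw [classInner_def]
    have h2 : ∀ g, θ g * conj (θ g) = θ g * θ g⁻¹ := fun g => by rw [isCharacter_apply_inv hc]
    rw [Finset.sum_congr rfl fun g _ => h2 g]
    -- the second factor is a class function
    have hcl : ∀ g x, θ (x * g * x⁻¹) = θ g := by
      intro g x
      rw [hθ]
      show ∑ a : G, κ⁻¹ * φ (a⁻¹ * (x * g * x⁻¹ * a)) = ∑ a : G, κ⁻¹ * φ (a⁻¹ * (g * a))
      rw [← Equiv.sum_comp (Equiv.mulLeft x)]
      refine Finset.sum_congr rfl fun a _ => ?_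
      simp only [Equiv.coe_mulLeft, mul_inv_rev]
      congr 2
      group
    have h3 : ∑ g, θ g * θ g⁻¹ = Nat.card G * ∑ g, κ⁻¹ * φ g * θ g⁻¹ := by
      have e1 : ∀ g, θ g * θ g⁻¹ = ∑ a : G, κ⁻¹ * φ (a⁻¹ * (g * a)) * θ g⁻¹ := fun g => by
        rw [← Finset.sum_mul]
      rw [Finset.sum_congr rfl fun g _ => e1 g, Finset.sum_comm]
      have e2 : ∀ a : G, ∑ g, κ⁻¹ * φ (a⁻¹ * (g * a)) * θ g⁻¹ = ∑ g, κ⁻¹ * φ g * θ g⁻¹ := by
        intro a
        rw [← Equiv.sum_comp (MulAut.conj a).toEquiv]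
        refine Finset.sum_congr rfl fun g _ => ?_
        have e3 : (MulAut.conj a).toEquiv g = a * g * a⁻¹ := rfl
        have e4 : (a * g * a⁻¹)⁻¹ = a * g⁻¹ * a⁻¹ := by group
        have e5 : a⁻¹ * (a * g * a⁻¹ * a) = g := by group
        rw [e3, e4, hcl, e5]
      rw [Finset.sum_congr rfl fun a _ => e2 a, Finset.sum_const, Finset.card_univ,
        ← Nat.card_eq_fintype_card, nsmul_eq_mul]
    have h4 : ∑ g, κ⁻¹ * φ g * θ g⁻¹ = 1 := by
      have e1 : ∀ g, κ⁻¹ * φ g * θ g⁻¹ = ∑ y, κ⁻¹ * κ⁻¹ * (φ g * φ (y⁻¹ * g⁻¹ * y)) := by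
        intro g
        rw [hθ]
        show κ⁻¹ * φ g * ∑ a : G, κ⁻¹ * φ (a⁻¹ * (g⁻¹ * a)) = _
        rw [Finset.mul_sum]
        refine Finset.sum_congr rfl fun a _ => ?_
        rw [← mul_assoc a⁻¹]
        ring
      rw [Finset.sum_congr rfl fun g _ => e1 g, Finset.sum_comm]
      have e2 : ∀ y : G, ∑ g, κ⁻¹ * κ⁻¹ * (φ g * φ (y⁻¹ * g⁻¹ * y)) =
          κ⁻¹ * (φ y * φ y⁻¹) := by
        intro y
        rw [← Finset.mul_sum, hprim, hy]
        field_simp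
      rw [Finset.sum_congr rfl fun y _ => e2 y, ← Finset.mul_sum, hκ, inv_mul_cancel₀ hκ0]
    rw [h3, h4, mul_one, inv_mul_cancel₀ hG]
  have hirr : IsIrrCharacter G θ := isIrr_of_classInner_self hc hnorm
  refine ⟨⟨θ, hirr⟩, ?_, fun g => Finset.sum_congr rfl fun a _ => by
    rw [← hs (a⁻¹ * (g⁻¹ * a))]
    congr 2
    group, fun g => rfl⟩
  show (∑ a : G, κ⁻¹ * φ (a⁻¹ * (1 * a))) * κ = _
  have h5 : ∀ a : G, κ⁻¹ * φ (a⁻¹ * (1 * a)) = κ⁻¹ := fun a => by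
    rw [one_mul, inv_mul_cancel, h1, mul_one]
  rw [Finset.sum_congr rfl fun a _ => h5 a, Finset.sum_const, Finset.card_univ,
    ← Nat.card_eq_fintype_card, nsmul_eq_mul, mul_assoc, inv_mul_cancel₀ hκ0, mul_one]

/-- The version for the Hecke algebra. -/
theorem exists_irr_of_hecke [Fintype G] (H : Subgroup G) [Fintype H] (t : G) {φ : G → ℂ} {μ κ : ℂ}
    (hl : ∀ h ∈ H, ∀ g, φ (h * g) = φ g) (hr : ∀ h ∈ H, ∀ g, φ (g * h) = φ g) (h1 : φ 1 = 1)
    (hT : ∀ g, ∑ h : H, φ (g * h * t) = μ * φ g)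
    (huniq : ∀ f : G → ℂ, (∀ h ∈ H, ∀ g, f (h * g) = f g) → (∀ h ∈ H, ∀ g, f (g * h) = f g) →
      (∀ g, ∑ h : H, f (g * h * t) = μ * f g) → ∀ g, f g = f 1 * φ g)
    (hκ : ∑ z, φ z * φ z⁻¹ = κ) (hκ0 : κ ≠ 0) (hs : ∀ z, φ z⁻¹ = φ z) :
    ∃ χ : IrrCharacter G, (χ : G → ℂ) 1 * κ = Nat.card G ∧ (∀ g, (χ : G → ℂ) g⁻¹ = (χ : G → ℂ) g) ∧
      ∀ g, (χ : G → ℂ) g = ∑ a : G, κ⁻¹ * φ (a⁻¹ * (g * a)) := by
  refine exists_irr_of_spherical h1 hs hκ hκ0 fun y u => ?_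
  have h := huniq (fun u => ∑ g, φ g * φ (y⁻¹ * g⁻¹ * u)) ?_ ?_ ?_ u
  · simp only [mul_one] at h
    exact h
  · intro h hh g
    show ∑ x, φ x * φ (y⁻¹ * x⁻¹ * (h * g)) = ∑ x, φ x * φ (y⁻¹ * x⁻¹ * g)
    rw [← Equiv.sum_comp (Equiv.mulLeft h)]
    refine Finset.sum_congr rfl fun x _ => ?_
    simp only [Equiv.coe_mulLeft]
    rw [hl h hh]
    congr 2
    group
  · intro h hh g
    show ∑ x, φ x * φ (y⁻¹ * x⁻¹ * (g * h)) = ∑ x, φ x * φ (y⁻¹ * x⁻¹ * g)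
    refine Finset.sum_congr rfl fun x _ => ?_
    rw [← mul_assoc (y⁻¹ * x⁻¹), hr h hh]
  · intro g
    show ∑ h : H, ∑ x, φ x * φ (y⁻¹ * x⁻¹ * (g * h * t)) =
      μ * ∑ x, φ x * φ (y⁻¹ * x⁻¹ * g)
    rw [Finset.sum_comm, Finset.mul_sum]
    refine Finset.sum_congr rfl fun x _ => ?_
    have e : ∀ h : H, φ x * φ (y⁻¹ * x⁻¹ * (g * h * t)) = φ x * φ (y⁻¹ * x⁻¹ * g * h * t) := by
      intro h
      congr 2
      group
    rw [Finset.sum_congr rfl fun h _ => e h, ← Finset.mul_sum, hT]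
    ring

open DoubleCoset in
/-- **Irreducible characters from a table of local counts.** -/
theorem exists_irr_of_table [Finite G] (H : Subgroup G) {m n : ℕ} (w : Fin m → G) (t : G)
    (hdis : ∀ i j, w j ∈ doubleCoset (w i) (H : Set G) (H : Set G) → i = j)
    (hcov : ∀ g, ∃ i, g ∈ doubleCoset (w i) (H : Set G) (H : Set G))
    (hinv : ∀ i, (w i)⁻¹ ∈ doubleCoset (w i) (H : Set G) (H : Set G))
    (pt : H → Fin n) (N : ℕ) (hN : 0 < N) (hpt : ∀ q, Nat.card {h : H // pt h = q} = N)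
    (τ : Fin m → Fin n → Fin m)
    (hτ : ∀ i (h : H), w i * h * t ∈ doubleCoset (w (τ i (pt h))) (H : Set G) (H : Set G))
    (k : Fin m → Fin m → ℕ)
    (hk : ∀ i j, (Finset.univ.filter (fun q => τ i q = j)).card = k i j)
    (i0 : Fin m) (hi0 : w i0 = 1) (v : Fin m → ℚ) (μ : ℚ) (hv0 : v i0 = 1)
    (hv : ∀ i, ∑ j, (k i j : ℚ) * v j = μ * v i)
    (hu : ∀ x : Fin m → ℂ, (∀ i, ∑ j, (k i j : ℂ) * x j = μ * x i) → ∀ i, x i = x i0 * v i) :
    ∃ χ : IrrCharacter G, (χ : G → ℂ) 1 *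
      ((∑ i, (Cfsg.Agent.HN.Count.sz H (w i) : ℚ) * v i ^ 2 : ℚ) : ℂ) = H.index ∧
      (∀ g, (χ : G → ℂ) g⁻¹ = (χ : G → ℂ) g) ∧ ∀ g, ∃ q : ℚ, (χ : G → ℂ) g = q := by
  classical
  have := Fintype.ofFinite G
  have := Fintype.ofFinite H
  choose lab hlab using hcov
  -- the label of a product
  have huniq : ∀ g i, g ∈ doubleCoset (w i) (H : Set G) (H : Set G) → lab g = i := by
    intro g i hg
    apply hdis
    have h1 := doubleCoset_eq_of_mem hg
    have h2 := doubleCoset_eq_of_mem (hlab g)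
    have h3 : w i ∈ doubleCoset g (H : Set G) (H : Set G) := by
      rw [h1]; exact mem_doubleCoset_self H H (w i)
    rwa [h2] at h3
  have hlabl : ∀ h ∈ H, ∀ g, lab (h * g) = lab g := by
    intro h hh g
    apply huniq
    obtain ⟨a, ha, b, hb, e⟩ := mem_doubleCoset.1 (hlab g)
    exact mem_doubleCoset.2 ⟨h * a, H.mul_mem hh ha, b, hb, by
      nth_rewrite 1 [e]; simp only [mul_assoc]⟩
  have hlabr : ∀ h ∈ H, ∀ g, lab (g * h) = lab g := by
    intro h hh g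
    apply huniq
    obtain ⟨a, ha, b, hb, e⟩ := mem_doubleCoset.1 (hlab g)
    exact mem_doubleCoset.2 ⟨a, ha, b * h, H.mul_mem hb hh, by
      nth_rewrite 1 [e]; simp only [mul_assoc]⟩
  have hlabw : ∀ i, lab (w i) = i := fun i => huniq _ _ (mem_doubleCoset_self H H (w i))
  have hlabi : ∀ g, lab g⁻¹ = lab g := by
    intro g
    apply huniq
    obtain ⟨a, ha, b, hb, e⟩ := mem_doubleCoset.1 (hlab g)
    obtain ⟨a', ha', b', hb', e'⟩ := mem_doubleCoset.1 (hinv (lab g))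
    refine mem_doubleCoset.2 ⟨b⁻¹ * a', H.mul_mem (H.inv_mem hb) ha', b' * a⁻¹,
      H.mul_mem hb' (H.inv_mem ha), ?_⟩
    nth_rewrite 1 [e]
    rw [mul_inv_rev, mul_inv_rev, e']
    group
  -- biinvariant functions
  have hf : ∀ f : G → ℂ, (∀ h ∈ H, ∀ g, f (h * g) = f g) → (∀ h ∈ H, ∀ g, f (g * h) = f g) →
      ∀ i g, g ∈ doubleCoset (w i) (H : Set G) (H : Set G) → f g = f (w i) := by
    intro f hl hr i g hg
    obtain ⟨a, ha, b, hb, e⟩ := mem_doubleCoset.1 hg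
    rw [e, hr b hb, hl a ha]
  have hsum : ∀ f : G → ℂ, (∀ h ∈ H, ∀ g, f (h * g) = f g) → (∀ h ∈ H, ∀ g, f (g * h) = f g) →
      ∀ g, ∑ h : H, f (g * h * t) = N * ∑ j, (k (lab g) j : ℂ) * f (w j) := by
    intro f hl hr g
    obtain ⟨a, ha, b, hb, e⟩ := mem_doubleCoset.1 (hlab g)
    have h1 : ∀ h : H, f (g * h * t) = f (w (lab g) * ((⟨b, hb⟩ * h : H) : G) * t) := by
      intro h
      nth_rewrite 1 [e]
      have : a * w (lab g) * b * h * t = a * (w (lab g) * (b * h) * t) := by group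
      rw [this, hl a ha]
      rfl
    have h6 := Equiv.sum_comp (Equiv.mulLeft (⟨b, hb⟩ : H))
      (fun h : H => f (w (lab g) * (h : G) * t))
    simp only [Equiv.coe_mulLeft] at h6
    rw [Finset.sum_congr rfl fun h _ => h1 h, h6]
    have h2 : ∀ h : H, f (w (lab g) * (h : G) * t) = f (w (τ (lab g) (pt h))) :=
      fun h => hf f hl hr _ _ (hτ (lab g) h)
    rw [Finset.sum_congr rfl fun h _ => h2 h]
    rw [← Finset.sum_fiberwise (s := Finset.univ) (g := fun h : H => pt h)]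
    have h3 : ∀ q : Fin n, ∑ h : H with pt h = q, f (w (τ (lab g) (pt h))) =
        N * f (w (τ (lab g) q)) := by
      intro q
      have h4 : ∀ h ∈ Finset.univ.filter (fun h : H => pt h = q),
          f (w (τ (lab g) (pt h))) = f (w (τ (lab g) q)) := by
        intro h hh
        rw [(Finset.mem_filter.1 hh).2]
      rw [Finset.sum_congr rfl h4, Finset.sum_const, nsmul_eq_mul, ← hpt q,
        Nat.card_eq_fintype_card, Fintype.card_subtype]
    rw [Finset.sum_congr rfl fun q _ => h3 q, ← Finset.mul_sum]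
    congr 1
    rw [← Finset.sum_fiberwise (s := Finset.univ) (g := fun q : Fin n => τ (lab g) q)]
    refine Finset.sum_congr rfl fun j _ => ?_
    have h5 : ∀ q ∈ Finset.univ.filter (fun q : Fin n => τ (lab g) q = j),
        f (w (τ (lab g) q)) = f (w j) := by
      intro q hq
      rw [(Finset.mem_filter.1 hq).2]
    rw [Finset.sum_congr rfl h5, Finset.sum_const, nsmul_eq_mul, hk]
  -- the size of a double coset
  have hsz : ∀ i, (Finset.univ.filter (fun g : G => lab g = i)).card =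
      Nat.card H * Cfsg.Agent.HN.Count.sz H (w i) := by
    intro i
    rw [← card_doubleCoset, ← Fintype.card_subtype, ← Nat.card_eq_fintype_card]
    refine Nat.card_congr (Equiv.subtypeEquivRight fun g => ⟨?_, fun h => huniq _ _ h⟩)
    rintro rfl
    exact hlab g
  -- the sum
  set K : ℚ := ∑ i, (Cfsg.Agent.HN.Count.sz H (w i) : ℚ) * v i ^ 2 with hK
  have hKpos : 0 < K := by
    rw [hK]
    refine Finset.sum_pos' (fun i _ => by positivity) ⟨i0, Finset.mem_univ _, ?_⟩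
    rw [hv0, one_pow, mul_one]
    exact_mod_cast Cfsg.Agent.HN.Count.sz_pos H (w i0)
  have hH : (0 : ℚ) < Nat.card H := by exact_mod_cast Nat.card_pos
  have hκ : ∑ z : G, ((v (lab z) : ℚ) : ℂ) * ((v (lab z⁻¹) : ℚ) : ℂ) =
      ((Nat.card H * K : ℚ) : ℂ) := by
    have h1 : ∀ z, ((v (lab z) : ℚ) : ℂ) * ((v (lab z⁻¹) : ℚ) : ℂ) =
        ((v (lab z) ^ 2 : ℚ) : ℂ) := by
      intro z
      rw [hlabi]
      push_cast
      ring
    rw [Finset.sum_congr rfl fun z _ => h1 z, ← Rat.cast_sum]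
    congr 1
    rw [← Finset.sum_fiberwise (s := Finset.univ) (g := fun z : G => lab z), hK, Finset.mul_sum]
    refine Finset.sum_congr rfl fun i _ => ?_
    have h2 : ∀ z ∈ Finset.univ.filter (fun z : G => lab z = i), v (lab z) ^ 2 = v i ^ 2 := by
      intro z hz
      rw [(Finset.mem_filter.1 hz).2]
    rw [Finset.sum_congr rfl h2, Finset.sum_const, nsmul_eq_mul, hsz]
    push_cast
    ring
  have hmain := exists_irr_of_hecke H t (φ := fun g => ((v (lab g) : ℚ) : ℂ))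
    (μ := N * ((μ : ℚ) : ℂ)) (κ := ((Nat.card H * K : ℚ) : ℂ)) ?_ ?_ ?_ ?_ ?_ hκ ?_
    (fun z => by
      show ((v (lab z⁻¹) : ℚ) : ℂ) = ((v (lab z) : ℚ) : ℂ)
      rw [hlabi])
  · obtain ⟨χ, hχ, hreal, hform⟩ := hmain
    refine ⟨χ, ?_, hreal, fun g => ⟨∑ a : G, (Nat.card H * K)⁻¹ * v (lab (a⁻¹ * (g * a))), by
      rw [hform]; push_cast; rfl⟩⟩
    have h1 := H.card_mul_index
    have h2 : ((Nat.card H : ℕ) : ℂ) * H.index = Nat.card G := by exact_mod_cast h1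
    rw [← h2] at hχ
    have h3 : ((Nat.card H : ℕ) : ℂ) ≠ 0 := by exact_mod_cast Nat.card_pos.ne'
    apply mul_left_cancel₀ h3
    rw [← hχ]
    push_cast
    ring
  · intro h hh g
    show ((v (lab (h * g)) : ℚ) : ℂ) = ((v (lab g) : ℚ) : ℂ)
    rw [hlabl h hh]
  · intro h hh g
    show ((v (lab (g * h)) : ℚ) : ℂ) = ((v (lab g) : ℚ) : ℂ)
    rw [hlabr h hh]
  · show ((v (lab 1) : ℚ) : ℂ) = 1
    have : lab 1 = i0 := by rw [← hi0]; exact hlabw i0
    rw [this, hv0, Rat.cast_one]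
  · intro g
    rw [hsum (fun g => ((v (lab g) : ℚ) : ℂ)) (fun h hh g => by
      show ((v (lab (h * g)) : ℚ) : ℂ) = ((v (lab g) : ℚ) : ℂ)
      rw [hlabl h hh]) (fun h hh g => by
      show ((v (lab (g * h)) : ℚ) : ℂ) = ((v (lab g) : ℚ) : ℂ)
      rw [hlabr h hh])]
    rw [mul_assoc]
    congr 1
    have h1 := hv (lab g)
    have h2 : ((∑ j, (k (lab g) j : ℚ) * v j : ℚ) : ℂ) = ((μ * v (lab g) : ℚ) : ℂ) := by rw [h1]
    rw [← Rat.cast_mul, ← h2]
    push_cast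
    exact Finset.sum_congr rfl fun j _ => by rw [hlabw]
  · intro f hl hr hT g
    have h1 := hu (fun i => f (w i)) (fun i => by
      have h2 := hT (w i)
      rw [hsum f hl hr, hlabw, mul_assoc] at h2
      exact mul_left_cancel₀ (by exact_mod_cast hN.ne') h2) (lab g)
    show f g = f 1 * ((v (lab g) : ℚ) : ℂ)
    rw [hf f hl hr _ _ (hlab g), h1, hi0]
  · have : (0 : ℚ) < Nat.card H * K := mul_pos hH hKpos
    exact_mod_cast this.ne'

end Cfsg.Agent.H426.Imc.Sph
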