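import Cfsg.Agent.H426.Imc.Real
import Cfsg.Agent.H426.Imc.Sph
import Cfsg.Agent.H492.IMHN
import Cfsg.Agent.H794.ImcTools
import Cfsg.Agent.H94.IMCLoc
import Cfsg.Agent.H287.Blk.HN

/-!
# S4526, the Harada-Norton group (helper426)

Two rational irreducible constituents of the permutation character of degree 1539000 of odd degree:
`653125 = 5 ^ 5 * 11 * 19` and `16929 = 3 ^ 4 * 11 * 19`.
-/

set_option autoImplicit false
set_option linter.style.longLine false

namespace Cfsg.Agent.H426.Imc.HN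

open Cfsg Cfsg.Agent.HN Cfsg.Agent.HN.Pres Cfsg.Agent.HN.DCover Cfsg.Agent.HN.NormalH Cfsg.Agent.HN.DSem
open Cfsg.Agent.HN.Index Cfsg.Agent.H492.IMSph Cfsg.Agent.H33 Cfsg.Agent.H492.IMHN
open Cfsg.Agent.H625.SylConst

universe u

/-- the eigenvector for the eigenvalue `16` -/
def vC : Fin 9 → ℚ := ![1, 1/88, 1/550, -7/4400, -17/15400, -1/1232, 3/4400, -3/385, 0]

theorem uC (x : Fin 9 → ℂ) (h : ∀ i, ∑ j, (kk i j : ℂ) * x j = ((16 : ℚ) : ℂ) * x i) (i : Fin 9) :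
    x i = x 0 * ((vC i : ℚ) : ℂ) := by
  have e := rows x (16) (by push_cast at h ⊢; exact h)
  obtain ⟨h0, h1, h2, h3, h4, h5, h6, h7, h8⟩ := e
  unfold vC
  fin_cases i
  · show x 0 = x 0 * (((1 : ℚ)) : ℂ)
    simp
  · show x 1 = x 0 * (((1/88 : ℚ)) : ℂ)
    push_cast
    linear_combination (1/1408) * h0
  · show x 2 = x 0 * (((1/550 : ℚ)) : ℂ)
    push_cast
    linear_combination (-23027/24116400) * h0 + (-937/54810) * h1 + (421/43848) * h2 + (5681/87696) * h3 + (3923/25056) * h4 + (-1067/17400) * h5 + (-35/232) * h8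
  · show x 3 = x 0 * (((-7/4400 : ℚ)) : ℂ)
    push_cast
    linear_combination (-2161/192931200) * h0 + (619/438480) * h1 + (929/1403136) * h2 + (-1429/350784) * h3 + (-433/100224) * h4 + (1147/69600) * h5 + (-35/3712) * h8
  · show x 4 = x 0 * (((-17/15400 : ℚ)) : ℂ)
    push_cast
    linear_combination (-3589/2701036800) * h0 + (3323/3069360) * h1 + (4633/9821952) * h2 + (-3917/2455488) * h3 + (-2537/701568) * h4 + (-2461/487200) * h5 + (35/3712) * h8
  · show x 5 = x 0 * (((-1/1232 : ℚ)) : ℂ)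
    push_cast
    linear_combination (34687/648248832) * h0 + (6143/3683232) * h1 + (-110275/58931712) * h2 + (-24775/14732928) * h3 + (-38575/4209408) * h4 + (-599/116928) * h5 + (125/7424) * h8
  · show x 6 = x 0 * (((3/4400 : ℚ)) : ℂ)
    push_cast
    linear_combination (-63311/1157587200) * h0 + (-128/82215) * h1 + (1277/1052352) * h2 + (1753/526176) * h3 + (1135/150336) * h4 + (293/104400) * h5 + (-35/2784) * h8
  · show x 7 = x 0 * (((-3/385 : ℚ)) : ℂ)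
    push_cast
    linear_combination (5213/6330555) * h0 + (12067/575505) * h1 + (-15049/1151010) * h2 + (-28307/575505) * h3 + (-37249/328860) * h4 + (-163/1827) * h5 + (1/10) * h6 + (25/174) * h8
  · show x 8 = x 0 * (((0 : ℚ)) : ℂ)
    push_cast
    linear_combination (5/75168) * h0 + (5/4698) * h1 + (-35/37584) * h2 + (-185/37584) * h3 + (-365/75168) * h4 + (5/2088) * h5 + (11/1392) * h8

theorem eigC (i : Fin 9) : ∑ j, (kk i j : ℚ) * vC j = 16 * vC i := by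
  revert i; decide +kernel

theorem normC : (∑ i, (ss i : ℚ) * vC i ^ 2 : ℚ) = 1539000 / 653125 := by decide +kernel


/-- the eigenvector for the eigenvalue `128` -/
def vD : Fin 9 → ℚ := ![1, 1/11, 1/11, 0, 1/77, -1/154, 0, 5/77, 0]

theorem uD (x : Fin 9 → ℂ) (h : ∀ i, ∑ j, (kk i j : ℂ) * x j = ((128 : ℚ) : ℂ) * x i) (i : Fin 9) :
    x i = x 0 * ((vD i : ℚ) : ℂ) := by
  have e := rows x (128) (by push_cast at h ⊢; exact h)
  obtain ⟨h0, h1, h2, h3, h4, h5, h6, h7, h8⟩ := e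
  unfold vD
  fin_cases i
  · show x 0 = x 0 * (((1 : ℚ)) : ℂ)
    simp
  · show x 1 = x 0 * (((1/11 : ℚ)) : ℂ)
    push_cast
    linear_combination (1/1408) * h0
  · show x 2 = x 0 * (((1/11 : ℚ)) : ℂ)
    push_cast
    linear_combination (2669/3696000) * h0 + (4/2625) * h1 + (-67/6720) * h2 + (-11/420) * h3 + (-1/40) * h4 + (-3/500) * h5 + (21/320) * h8
  · show x 3 = x 0 * (((0 : ℚ)) : ℂ)
    push_cast
    linear_combination (173/16800000) * h0 + (173/131250) * h1 + (71/168000) * h2 + (13/4200) * h3 + (-3/2000) * h4 + (33/3125) * h5 + (-21/1600) * h8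
  · show x 4 = x 0 * (((1/77 : ℚ)) : ℂ)
    push_cast
    linear_combination (34061/323400000) * h0 + (227/459375) * h1 + (-17/1176000) * h2 + (-151/29400) * h3 + (-19/14000) * h4 + (-141/21875) * h5 + (21/1600) * h8
  · show x 5 = x 0 * (((-1/154 : ℚ)) : ℂ)
    push_cast
    linear_combination (-4997/103488000) * h0 + (23/73500) * h1 + (39/62720) * h2 + (1/294) * h3 + (1/210) * h4 + (-61/14000) * h5 + (-1/256) * h8
  · show x 6 = x 0 * (((0 : ℚ)) : ℂ)
    push_cast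
    linear_combination (-1/480000) * h0 + (-1/3750) * h1 + (-1/2400) * h2 + (-1/300) * h4 + (3/625) * h5
  · show x 7 = x 0 * (((5/77 : ℚ)) : ℂ)
    push_cast
    linear_combination (79801/161700000) * h0 + (-811/459375) * h1 + (-437/98000) * h2 + (-173/7350) * h3 + (-139/2625) * h4 + (-537/21875) * h5 + (1/10) * h6 + (3/400) * h8
  · show x 8 = x 0 * (((0 : ℚ)) : ℂ)
    push_cast
    linear_combination (-1/2400000) * h0 + (-1/18750) * h1 + (7/16000) * h2 + (-1/600) * h3 + (31/6000) * h4 + (-101/25000) * h5 + (3/3200) * h8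

theorem eigD (i : Fin 9) : ∑ j, (kk i j : ℚ) * vD j = 128 * vD i := by
  revert i; decide +kernel

theorem normD : (∑ i, (ss i : ℚ) * vD i ^ 2 : ℚ) = 1539000 / 16929 := by decide +kernel


theorem main (v : Fin 9 → ℚ) (μ : ℚ) (hv0 : v 0 = 1) (hv : ∀ i, ∑ j, (kk i j : ℚ) * v j = μ * v i)
    (hu : ∀ x : Fin 9 → ℂ, (∀ i, ∑ j, (kk i j : ℂ) * x j = (μ : ℂ) * x i) → ∀ i, x i = x 0 * v i) :
    ∃ χ : IrrCharacter Cfsg.Spor.HN, (χ : Cfsg.Spor.HN → ℂ) 1 *
      ((∑ i, (ss i : ℚ) * v i ^ 2 : ℚ) : ℂ) = 1539000 ∧ ∀ g, (χ : Cfsg.Spor.HN → ℂ) g⁻¹ = (χ : Cfsg.Spor.HN → ℂ) g := by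
  obtain ⟨χ, hχ, hr, -⟩ := Sph.exists_irr_of_table H w9 ht DistinctC.hdis covers hinv ptH _
    (Count.card_stab_pos _ _) card_ptH τ mul_mem_doubleCoset kk card_τ 0 w9_zero v μ hv0 hv hu
  refine ⟨χ, ?_, hr⟩
  simp only [sizes] at hχ
  rw [hχ, index_H DistinctC.hdis]
  norm_num

/-- a real irreducible character of degree 653125 -/
theorem exists_653125 : ∃ χ : IrrCharacter Cfsg.Spor.HN, charDegree (χ : Cfsg.Spor.HN → ℂ) = 653125 ∧
    ∀ g, (χ : Cfsg.Spor.HN → ℂ) g⁻¹ = (χ : Cfsg.Spor.HN → ℂ) g := by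
  obtain ⟨χ, hχ, hr⟩ := main vC 16 rfl eigC uC
  refine ⟨χ, ?_, hr⟩
  rw [normC] at hχ
  have h1 := Blocks.Basic.irr_one_eq_charDegree χ.2
  rw [h1] at hχ
  have h2 : ((charDegree (χ : Cfsg.Spor.HN → ℂ) : ℕ) : ℂ) = ((653125 : ℕ) : ℂ) := by
    push_cast at hχ ⊢
    linear_combination (653125 / 1539000 : ℂ) * hχ
  exact_mod_cast h2

/-- a real irreducible character of degree 16929 -/
theorem exists_16929 : ∃ χ : IrrCharacter Cfsg.Spor.HN, charDegree (χ : Cfsg.Spor.HN → ℂ) = 16929 ∧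
    ∀ g, (χ : Cfsg.Spor.HN → ℂ) g⁻¹ = (χ : Cfsg.Spor.HN → ℂ) g := by
  obtain ⟨χ, hχ, hr⟩ := main vD 128 rfl eigD uD
  refine ⟨χ, ?_, hr⟩
  rw [normD] at hχ
  have h1 := Blocks.Basic.irr_one_eq_charDegree χ.2
  rw [h1] at hχ
  have h2 : ((charDegree (χ : Cfsg.Spor.HN → ℂ) : ℕ) : ℂ) = ((16929 : ℕ) : ℂ) := by
    push_cast at hχ ⊢
    linear_combination (16929 / 1539000 : ℂ) * hχ
  exact_mod_cast h2

theorem imc_HN {p : ℕ} [hp : Fact p.Prime] (hd : p ∣ Nat.card Cfsg.Spor.HN) : IMC p Cfsg.Spor.HN := by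
  by_cases h2 : p = 2
  · subst h2
    exact H94.IMCLoc.imc_two_of_loc (H287.Blk.loc_HN ⟨MulEquiv.refl _⟩)
  by_cases h3 : p ∣ 653125
  · obtain ⟨χ, h4, h5⟩ := exists_653125
    exact Real.imc_of_real_odd h2 χ h5 (by rw [h4]; exact h3) (by rw [h4]; decide)
  by_cases h4 : p ∣ 16929
  · obtain ⟨χ, h5, h6⟩ := exists_16929
    exact Real.imc_of_real_odd h2 χ h6 (by rw [h5]; exact h4) (by rw [h5]; decide)
  have h7 : p = 7 := by
    rw [card_hn, show (273030912000000 : ℕ) = 2 ^ 14 * (3 ^ 6 * (5 ^ 6 * (7 * (11 * 19)))) by norm_num] at hd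
    have hc : ∀ q : ℕ, q.Prime → p ∣ q → p = q := fun q hq h => (Nat.prime_dvd_prime_iff_eq hp.out hq).1 h
    rcases hp.out.dvd_mul.1 hd with h | hd
    · exact absurd (hc 2 (by norm_num) (hp.out.dvd_of_dvd_pow h)) h2
    rcases hp.out.dvd_mul.1 hd with h | hd
    · exact absurd ((hp.out.dvd_of_dvd_pow h).trans (by norm_num)) h4
    rcases hp.out.dvd_mul.1 hd with h | hd
    · exact absurd ((hp.out.dvd_of_dvd_pow h).trans (by norm_num)) h3
    rcases hp.out.dvd_mul.1 hd with h | hd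
    · exact hc 7 (by norm_num) h
    rcases hp.out.dvd_mul.1 hd with h | hd
    · exact absurd (h.trans (by norm_num)) h4
    · exact absurd (hd.trans (by norm_num)) h4
  subst h7
  exact H794.Imc.imc_of_exact hd (by rw [card_hn]; norm_num) (im_hn ⟨MulEquiv.refl _⟩ hd)

/-- **The row `HN` of S4526.** -/
theorem imc_hn {S : Type u} [Group S] [Finite S] (h : Cfsg.Spor.IsoHN S) {p : ℕ} [hp : Fact p.Prime]
    (hd : p ∣ Nat.card S) : IMC p S := by
  obtain ⟨e⟩ := h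
  refine IMC.of_equiv e (imc_HN ?_)
  rwa [Nat.card_congr e.toEquiv] at hd

end Cfsg.Agent.H426.Imc.HN
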