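import Cfsg.Agent.H794.Imc

/-!
# `IMC p G` from a real irreducible character of odd degree (helper426)

* `fix_of_real_odd` : a real valued `χ` with algebraic integer values and `χ 1` odd has non-zero sum over every
  subgroup of odd order;
* `imc_of_real_odd` : `p` odd, `χ` irreducible and real valued of odd degree divisible by `p` : `IMC p G`;
* `fix_of_rational`, `imc_of_rational` : `χ` constant on generators of the cyclic `p`-subgroups, `(p - 1) ∤ χ 1`.
-/

set_option autoImplicit false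

open Cfsg

namespace Cfsg.Agent.H426.Imc.Real

open Cfsg.Agent.H625.SylConst

universe u

/-- In the algebraic integers, a natural number divisible by `m` is divisible by `m` as a natural number. -/
theorem dvd_of_algInt {m n : ℕ} (hm : m ≠ 0) {z : AlgInt} (h : (n : AlgInt) = (m : AlgInt) * z) : m ∣ n := by
  have h1 : (n : ℂ) = (m : ℂ) * (z : ℂ) := by
    have := congrArg (Subtype.val) h
    simpa using this
  have h2 : ((n : ℚ) / m : ℚ) = ((n : ℚ) / m : ℚ) := rfl
  have hm' : (m : ℂ) ≠ 0 := by exact_mod_cast hm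
  have h3 : (z : ℂ) = (((n : ℚ) / m : ℚ) : ℂ) := by
    push_cast
    rw [h1, mul_div_cancel_left₀ _ hm']
  have h4 : IsIntegral ℤ (((n : ℚ) / m : ℚ) : ℂ) := h3 ▸ z.2
  have h5 : IsIntegral ℤ ((n : ℚ) / m : ℚ) := by
    have := (isIntegral_algebraMap_iff (R := ℤ) (A := ℚ) (B := ℂ) (algebraMap ℚ ℂ).injective (x := (n : ℚ) / m)).1
    exact this (by simpa using h4)
  obtain ⟨k, hk⟩ := IsIntegrallyClosed.isIntegral_iff.1 h5
  have hmq : (m : ℚ) ≠ 0 := by exact_mod_cast hm
  have h6 : (n : ℚ) = m * k := by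
    rw [eq_comm, div_eq_iff hmq] at hk
    rw [hk, mul_comm]
    rfl
  have h7 : (n : ℤ) = m * k := by exact_mod_cast h6
  exact Int.natCast_dvd_natCast.1 ⟨k, h7⟩

theorem fix_of_real_odd {G : Type u} [Group G] [Finite G] (P : Subgroup G) (hP : Odd (Nat.card P)) {χ : G → ℂ}
    (hint : ∀ g, IsIntegral ℤ (χ g)) (hreal : ∀ g, χ g⁻¹ = χ g) {n : ℕ} (h1 : χ 1 = n) (hn : Odd n) :
    Fix P χ := by
  classical
  have := Fintype.ofFinite P
  rw [fix_iff]
  intro h0
  let f : P → AlgInt := fun z => ⟨χ z, hint z⟩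
  have hf : ∑ z : P, f z = 0 := by
    apply Subtype.ext
    rw [AddSubmonoidClass.coe_finsetSum]
    exact h0
  let J : Ideal AlgInt := Ideal.span {(2 : AlgInt)}
  have hsum : ∑ z ∈ Finset.univ.erase (1 : P), Ideal.Quotient.mk J (f z) = 0 := by
    refine Finset.sum_involution (fun z _ => z⁻¹) ?_ ?_ ?_ ?_
    · intro z _
      have e : f z⁻¹ = f z := Subtype.ext (by
        show χ ((z⁻¹ : P) : G) = χ z
        rw [Subgroup.coe_inv]; exact hreal z)
      rw [e, ← map_add, Ideal.Quotient.eq_zero_iff_mem]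
      exact Ideal.mem_span_singleton.2 ⟨f z, by ring⟩
    · intro z hz _ he
      have hz1 : z ≠ 1 := (Finset.mem_erase.1 hz).1
      apply hz1
      have h2 : z ^ 2 = 1 := by
        rw [pow_two]
        nth_rewrite 1 [← he]
        exact inv_mul_cancel z
      have h3 : orderOf z ∣ 2 := orderOf_dvd_of_pow_eq_one h2
      have h4 : orderOf z ∣ Nat.card P := orderOf_dvd_natCard z
      have h5 : orderOf z ∣ 1 := by
        have := Nat.dvd_gcd h3 h4
        rwa [(Nat.coprime_two_left.2 hP : Nat.gcd 2 (Nat.card P) = 1)] at this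
      exact orderOf_eq_one_iff.1 (Nat.dvd_one.1 h5)
    · intro z hz
      refine Finset.mem_erase.2 ⟨fun h => (Finset.mem_erase.1 hz).1 (inv_eq_one.1 h), Finset.mem_univ _⟩
    · intro z _
      exact inv_inv z
  have h3 : Ideal.Quotient.mk J (f 1) = 0 := by
    have h4 := congrArg (Ideal.Quotient.mk J) hf
    rw [map_sum, map_zero, ← Finset.add_sum_erase _ _ (Finset.mem_univ (1 : P)), hsum, add_zero] at h4
    exact h4
  rw [Ideal.Quotient.eq_zero_iff_mem] at h3
  obtain ⟨z, hz⟩ := Ideal.mem_span_singleton.1 h3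
  have h5 : (n : AlgInt) = ((2 : ℕ) : AlgInt) * z := by
    rw [Nat.cast_ofNat, ← hz]
    apply Subtype.ext
    show ((n : AlgInt) : ℂ) = χ ((1 : P) : G)
    rw [Subgroup.coe_one, h1]
    norm_cast
  have h6 := dvd_of_algInt (by norm_num) h5
  exact (Nat.not_even_iff_odd.2 hn) (even_iff_two_dvd.2 h6)

/-- **A real irreducible character of odd degree divisible by `p`.** -/
theorem imc_of_real_odd {G : Type u} [Group G] [Finite G] {p : ℕ} [hp : Fact p.Prime] (hp2 : p ≠ 2)
    (χ : IrrCharacter G) (hreal : ∀ g, (χ : G → ℂ) g⁻¹ = (χ : G → ℂ) g) (hd : p ∣ charDegree (χ : G → ℂ))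
    (hodd : Odd (charDegree (χ : G → ℂ))) : IMC p G := by
  obtain ⟨P⟩ : Nonempty (Sylow p G) := inferInstance
  refine ⟨χ, P, hd, fix_of_real_odd _ ?_ (fun g => CharactersDeep.ModCongr.isIntegral_irr χ.2 g) hreal
    (Blocks.Basic.irr_one_eq_charDegree χ.2) hodd⟩
  obtain ⟨k, hk⟩ := IsPGroup.iff_card.1 P.isPGroup'
  rw [hk]
  exact (hp.out.odd_of_ne_two hp2).pow

/-- the number of generators of a cyclic subgroup -/
theorem card_fiber {P : Type u} [Group P] [Finite P] (c : P) :
    Nat.card {z : P // Subgroup.zpowers z = Subgroup.zpowers c} = (orderOf c).totient := by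
  classical
  have := Fintype.ofFinite (Subgroup.zpowers c)
  have h1 := IsCyclic.card_orderOf_eq_totient (α := Subgroup.zpowers c) (d := orderOf c)
    (by rw [← Nat.card_zpowers, Nat.card_eq_fintype_card])
  rw [← h1, ← Fintype.card_subtype, ← Nat.card_eq_fintype_card]
  refine Nat.card_congr
    { toFun := fun z => ⟨⟨z.1, z.2.le (Subgroup.mem_zpowers z.1)⟩, by
        rw [Subgroup.orderOf_mk, ← Nat.card_zpowers, z.2, Nat.card_zpowers]⟩
      invFun := fun z => ⟨(z.1 : P), by
        apply Subgroup.eq_of_le_of_card_ge (Subgroup.zpowers_le.2 z.1.2)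
        have h2 := z.2
        rw [← Subgroup.orderOf_coe] at h2
        rw [Nat.card_zpowers, Nat.card_zpowers, h2]⟩
      left_inv := fun z => rfl
      right_inv := fun z => rfl }

/-- `χ` constant on the generators of cyclic subgroups of the `p`-group `P`, `(p - 1) ∤ χ 1` -/
theorem fix_of_rational {G : Type u} [Group G] [Finite G] {p : ℕ} [hp : Fact p.Prime] (P : Subgroup G)
    (hP : IsPGroup p P) {χ : G → ℂ} (hint : ∀ g, IsIntegral ℤ (χ g))
    (hrat : ∀ g h : G, Subgroup.zpowers g = Subgroup.zpowers h → χ g = χ h) {n : ℕ} (h1 : χ 1 = n)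
    (hn : ¬ (p - 1) ∣ n) : Fix P χ := by
  classical
  have := Fintype.ofFinite P
  have := Fintype.ofFinite (Subgroup P)
  rw [fix_iff]
  intro h0
  let f : P → AlgInt := fun z => ⟨χ z, hint z⟩
  have hf : ∑ z : P, f z = 0 := by
    apply Subtype.ext
    rw [AddSubmonoidClass.coe_finsetSum]
    exact h0
  have hfe : ∀ z w : P, Subgroup.zpowers z = Subgroup.zpowers w → f z = f w := by
    intro z w h
    apply Subtype.ext
    apply hrat
    have h2 := congrArg (Subgroup.map P.subtype) h
    rwa [MonoidHom.map_zpowers, MonoidHom.map_zpowers] at h2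
  let J : Ideal AlgInt := Ideal.span {((p - 1 : ℕ) : AlgInt)}
  have hfib : ∀ C : Subgroup P, C ≠ ⊥ →
      Ideal.Quotient.mk J (∑ z ∈ Finset.univ.filter (fun z : P => Subgroup.zpowers z = C), f z) = 0 := by
    intro C hC
    rcases (Finset.univ.filter (fun z : P => Subgroup.zpowers z = C)).eq_empty_or_nonempty with he | ⟨c, hc⟩
    · rw [he, Finset.sum_empty, map_zero]
    have hc' : Subgroup.zpowers c = C := (Finset.mem_filter.1 hc).2
    have h2 : ∑ z ∈ Finset.univ.filter (fun z : P => Subgroup.zpowers z = C), f z = (orderOf c).totient * f c := by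
      rw [Finset.sum_congr rfl (fun z hz => hfe z c (by rw [(Finset.mem_filter.1 hz).2, hc'])), Finset.sum_const,
        nsmul_eq_mul]
      congr 2
      rw [← card_fiber c, ← Fintype.card_subtype, ← Nat.card_eq_fintype_card, hc']
    rw [h2, Ideal.Quotient.eq_zero_iff_mem]
    apply Ideal.mul_mem_right
    refine Ideal.mem_span_singleton.2 ?_
    obtain ⟨k, hk⟩ := (IsPGroup.iff_orderOf.1 hP) c
    have hk0 : k ≠ 0 := by
      rintro rfl
      rw [pow_zero, orderOf_eq_one_iff] at hk
      rw [hk, Subgroup.zpowers_one_eq_bot] at hc'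
      exact hC hc'.symm
    rw [hk, Nat.totient_prime_pow hp.out (Nat.pos_of_ne_zero hk0)]
    exact ⟨((p ^ (k - 1) : ℕ) : AlgInt), by rw [← Nat.cast_mul, mul_comm]⟩
  have h3 : Ideal.Quotient.mk J (f 1) = 0 := by
    have h4 := congrArg (Ideal.Quotient.mk J) hf
    rw [← Finset.sum_fiberwise (s := Finset.univ) (g := fun z : P => Subgroup.zpowers z), map_sum, map_zero,
      Finset.sum_eq_single (⊥ : Subgroup P) (fun C _ hC => hfib C hC)
        (fun h => absurd (Finset.mem_univ _) h)] at h4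
    have h5 : Finset.univ.filter (fun z : P => Subgroup.zpowers z = ⊥) = {1} := by
      ext z
      simp [Subgroup.zpowers_eq_bot]
    rwa [h5, Finset.sum_singleton] at h4
  rw [Ideal.Quotient.eq_zero_iff_mem] at h3
  obtain ⟨z, hz⟩ := Ideal.mem_span_singleton.1 h3
  have h5 : (n : AlgInt) = ((p - 1 : ℕ) : AlgInt) * z := by
    rw [← hz]
    apply Subtype.ext
    show ((n : AlgInt) : ℂ) = χ ((1 : P) : G)
    rw [Subgroup.coe_one, h1]
    norm_cast
  exact hn (dvd_of_algInt (Nat.sub_pos_of_lt hp.out.one_lt).ne' h5)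

/-- **A rational irreducible character with `p ∣ χ 1` and `(p - 1) ∤ χ 1`.** -/
theorem imc_of_rational {G : Type u} [Group G] [Finite G] {p : ℕ} [hp : Fact p.Prime]
    (χ : IrrCharacter G) (hrat : ∀ g h : G, Subgroup.zpowers g = Subgroup.zpowers h → (χ : G → ℂ) g = (χ : G → ℂ) h)
    (hd : p ∣ charDegree (χ : G → ℂ)) (hn : ¬ (p - 1) ∣ charDegree (χ : G → ℂ)) : IMC p G := by
  obtain ⟨P⟩ : Nonempty (Sylow p G) := inferInstance
  exact ⟨χ, P, hd, fix_of_rational _ P.isPGroup' (fun g => CharactersDeep.ModCongr.isIntegral_irr χ.2 g) hrat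
    (Blocks.Basic.irr_one_eq_charDegree χ.2) hn⟩

end Cfsg.Agent.H426.Imc.Real
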